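import Groth.Agent.Lib.AlgSp.BootstrapQuot
import Groth.Agent.Lib.AlgSp.ThickScheme
import Groth.Agent.Lib.AlgSp.ImmersionDescent
import Groth.Agent.Lib.AlgSp.QuotRestrict
import Groth.Agent.Lib.GrpSchField.GrpdField
import Groth.Prelude.Def_Grpd
import Groth.Prelude.Def_MoreMor

/-!
# Quotients along a thickening

An fppf equivalence relation whose restriction to a saturated thickened subscheme has a quotient scheme has a
quotient scheme: its quotient sheaf is an algebraic space thickening a scheme.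
-/

set_option autoImplicit false
set_option backward.isDefEq.respectTransparency false

universe u

open CategoryTheory CategoryTheory.Limits AlgebraicGeometry Opposite

namespace GrothLib.GrpdThick13

open _root_.AlgSp

variable {S : Scheme.{u}}

/-- A groupoid with monomorphic `(t, s)` is an equivalence relation on points. -/
theorem isEqvRel_of_grpd (G : Grpd.GroupoidScheme S) [Mono G.j] :
    IsEqvRel (R := Over.mk G.pR) (U := Over.mk G.pU) (Over.homMk G.s G.s_over) (Over.homMk G.t G.t_over) where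
  injective T r r' h₁ h₂ := by
    apply Over.OverMorphism.ext
    rw [← cancel_mono G.j]
    apply pullback.hom_ext
    · simpa [Grpd.GroupoidScheme.j] using congrArg (·.left) h₁
    · simpa [Grpd.GroupoidScheme.j] using congrArg (·.left) h₂
  equivalence T := by
    refine ⟨fun a => ⟨Over.homMk (a.left ≫ G.e) ?_, ?_, ?_⟩, ?_, ?_⟩
    · show (a.left ≫ G.e) ≫ G.pR = T.hom
      rw [Category.assoc, ← G.s_over, reassoc_of% G.e_s]
      exact Over.w a
    · apply Over.OverMorphism.ext
      simp [G.e_t]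
    · apply Over.OverMorphism.ext
      simp [G.e_s]
    · rintro a b ⟨r, rfl, rfl⟩
      refine ⟨Over.homMk (r.left ≫ G.i) ?_, ?_, ?_⟩
      · show (r.left ≫ G.i) ≫ G.pR = T.hom
        have hi : G.i ≫ G.pR = G.pR :=
          calc G.i ≫ G.pR = G.i ≫ G.s ≫ G.pU := by rw [G.s_over]
            _ = G.pR := by rw [reassoc_of% G.i_s, G.t_over]
        rw [Category.assoc, hi]
        exact Over.w r
      · apply Over.OverMorphism.ext
        simp [G.i_t]
      · apply Over.OverMorphism.ext
        simp [G.i_s]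
    · rintro a b c ⟨r, rfl, hrs⟩ ⟨r', hrt, rfl⟩
      have h : r.left ≫ G.s = r'.left ≫ G.t := by
        have := congrArg (·.left) (hrs.trans hrt.symm)
        simpa using this
      refine ⟨Over.homMk (GrpSchField.cmp G r.left r'.left h) ?_, ?_, ?_⟩
      · show GrpSchField.cmp G r.left r'.left h ≫ G.pR = T.hom
        refine Eq.trans (congrArg (GrpSchField.cmp G r.left r'.left h ≫ ·) G.s_over.symm) ?_
        rw [← Category.assoc]
        refine (congrArg (· ≫ G.pU) (G.comp_s r.left r'.left h)).trans ?_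
        rw [Category.assoc, G.s_over]
        exact Over.w r'
      · apply Over.OverMorphism.ext
        simpa using G.comp_t r.left r'.left h
      · apply Over.OverMorphism.ext
        simpa using G.comp_s r.left r'.left h

theorem fppfDescends_thick : GrothLib.AlgSp.FppfDescends.{u} (@IsClosedImmersion ⊓ @Surjective) :=
  GrothLib.AlgSp.fppfDescends_isClosedImmersion.inf GrothLib.AlgSp.fppfDescends_surjective

open GrothLib.AlgSp in
/-- The quotient along a thickening. -/
theorem exists_quot {R U U₀ Y₀ R₀ : Over S} {s t : R ⟶ U} (h : IsEqvRel s t) [Flat s.left]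
    [LocallyOfFinitePresentation s.left] (c₀ : U₀ ⟶ U) (hc : MoreMor.IsThickening c₀.left)
    (p₀ : U₀ ⟶ Y₀) [Flat p₀.left] [LocallyOfFinitePresentation p₀.left] [Surjective p₀.left]
    (ι : R₀ ⟶ R) (s₀ t₀ : R₀ ⟶ U₀) (hι : IsPullback ι t₀ t c₀) (hs₀ : ι ≫ s = s₀ ≫ c₀)
    (hR₀ : IsPullback t₀ s₀ p₀ p₀) :
    ∃ (Y : Over S) (p : U ⟶ Y), Surjective p.left ∧ Flat p.left ∧ LocallyOfFinitePresentation p.left ∧
      IsPullback t.left s.left p.left p.left := by
  let F := QuotSh.quot Scheme.fppfPrecoverage s t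
  let p := yonQuotπ s t
  have sqR := isPullback_yonQuotπ h
  haveI := isLocallySurjective_yonQuotπ s t
  obtain ⟨hd, h₁, h₂, h₃⟩ := fppf_chart_of_kernelPair sqR
  have hF : IsAlgSpace F := isAlgSpace_quot h
  haveI hls : Sheaf.IsLocallySurjective ((yon S).map p₀) := isLocallySurjective_yon_map p₀ ‹_› ‹_› ‹_›
  haveI : Epi ((yon S).map p₀) := (Sheaf.isLocallySurjective_iff_epi _).1 inferInstance
  have := IsRegularEpiCategory.regularEpiOfEpi (C := Sp S) ((yon S).map p₀)
  have sqR₀ := isPullback_yon hR₀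
  have sqι := isPullback_yon hι
  have hs₀' := congrArg (fun k => (yon S).map k) hs₀
  simp only [Functor.map_comp] at hs₀'
  obtain ⟨i, hi⟩ := IsRegularEpi.exists_of_isKernelPair ((yon S).map p₀) sqR₀ ((yon S).map c₀ ≫ p)
    (by rw [← reassoc_of% sqι.w, sqR.w, reassoc_of% hs₀'])
  -- the inclusion is the pullback of `p`
  have sqP := IsPullback.of_hasPullback i p
  let φ : (yon S).obj U₀ ⟶ pullback i p := pullback.lift ((yon S).map p₀) ((yon S).map c₀) hi
  haveI : IsClosedImmersion c₀.left := hc.1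
  haveI : Mono c₀ := by
    haveI : Mono c₀.left := inferInstance
    exact (Over.forget S).mono_of_mono_map ‹_›
  haveI : Mono (φ ≫ pullback.snd i p) := by
    rw [pullback.lift_snd]
    exact Functor.map_mono _ _
  haveI : Mono φ := mono_of_mono φ (pullback.snd i p)
  have sqQ := IsPullback.of_hasPullback (pullback.fst i p) ((yon S).map p₀)
  let χ := pullback.fst (pullback.fst i p) ((yon S).map p₀)
  let π := pullback.snd (pullback.fst i p) ((yon S).map p₀)
  haveI : Sheaf.IsLocallySurjective χ := isLocallySurjective_of_isPullback sqQ.flip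
  have hw : (π ≫ (yon S).map c₀) ≫ p = (χ ≫ pullback.snd i p) ≫ p := by
    rw [Category.assoc, ← hi, ← reassoc_of% sqQ.w, pullback.condition, Category.assoc]
  let ρ := sqR.lift _ _ hw
  let ρ₀ := sqι.lift ρ π (sqR.lift_fst _ _ hw)
  let ψ := ρ₀ ≫ (yon S).map s₀
  have hψ₁ : ψ ≫ (yon S).map c₀ = χ ≫ pullback.snd i p := by
    rw [Category.assoc, ← hs₀', reassoc_of% (sqι.lift_fst ρ π (sqR.lift_fst _ _ hw)), sqR.lift_snd]
  have hψ₂ : ψ ≫ (yon S).map p₀ = χ ≫ pullback.fst i p := by
    rw [Category.assoc, ← sqR₀.w, reassoc_of% (sqι.lift_snd ρ π (sqR.lift_fst _ _ hw))]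
    exact sqQ.w.symm
  have hχ : ψ ≫ φ = χ := by
    apply pullback.hom_ext
    · rw [Category.assoc, pullback.lift_fst, hψ₂]
    · rw [Category.assoc, pullback.lift_snd, hψ₁]
  haveI : Epi χ := (Sheaf.isLocallySurjective_iff_epi _).1 inferInstance
  haveI : Epi (ψ ≫ φ) := hχ ▸ inferInstance
  haveI : Epi φ := epi_of_epi ψ φ
  haveI : IsIso φ := isIso_of_mono_of_epi φ
  have sq : IsPullback ((yon S).map p₀) ((yon S).map c₀) i p :=
    sqP.of_iso (asIso φ).symm (Iso.refl _) (Iso.refl _) (Iso.refl _) (by simp [φ]) (by simp [φ]) (by simp) (by simp)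
  have hthick : RepWith (@IsClosedImmersion ⊓ @Surjective) i :=
    repWith_of_base_isImmersion p sq (fun _ _ g hg => haveI := hg.1; inferInstance) fppfDescends_thick
      ((repWith_yon_map_iff _ _).2 ⟨hc.1, hc.2⟩)
  obtain ⟨M, ⟨e⟩⟩ := exists_scheme_of_thick hF hthick
  obtain ⟨q, hq⟩ := (yon S).map_surjective (p ≫ e.inv)
  have sq' : IsPullback ((yon S).map t) ((yon S).map s) ((yon S).map q) ((yon S).map q) :=
    sqR.of_iso (Iso.refl _) (Iso.refl _) (Iso.refl _) e.symm (by simp) (by simp) (by simp [hq, p]) (by simp [hq, p])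
  refine ⟨M, q, ?_, ?_, ?_, isPullback_left (isPullback_of_isPullback_yon sq')⟩
  all_goals
    refine (repWith_yon_map_iff _ _).1 (repWith_of_isPullback (f := p) (g := e.hom) (g' := 𝟙 _)
      (IsPullback.of_horiz_isIso ⟨by simp [hq]⟩) ?_)
  exacts [h₃, h₁, h₂]

end GrothLib.GrpdThick13
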